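import Mathlib

/-!
# Finitely many steps of evaluation exhaust every module
-/

universe u v w

namespace Groth.Agent.AlgSpB.Chev

variable {A : Type u} [CommRing A] {B : Type w} [AddCommGroup B] [Module A B]

/-- The vectors annihilating relations modulo an ideal, evaluated at a vector. -/
def trIdeal {R : Type u} [CommRing R] {n m : ℕ} (r : Fin m → Fin n → R) (c : Fin n → R) (J : Ideal R) : Ideal R where
  carrier := {a | ∃ y : Fin n → R, (∀ j, ∑ l, r j l * y l ∈ J) ∧ a - ∑ l, c l * y l ∈ J}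
  zero_mem' := ⟨0, by simp, by simp⟩
  add_mem' := by
    rintro a b ⟨y, hy, ha⟩ ⟨z, hz, hb⟩
    refine ⟨y + z, fun j => ?_, ?_⟩
    · simpa [mul_add, Finset.sum_add_distrib] using J.add_mem (hy j) (hz j)
    · have := J.add_mem ha hb
      simp only [Pi.add_apply, mul_add, Finset.sum_add_distrib]
      convert this using 1
      ring
  smul_mem' := by
    rintro t a ⟨y, hy, ha⟩
    have e : ∀ f : Fin n → R, ∑ l, f l * (t * y l) = t * ∑ l, f l * y l := fun f => by
      rw [Finset.mul_sum]; exact Finset.sum_congr rfl fun l _ => by ring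
    refine ⟨fun l => t * y l, fun j => ?_, ?_⟩
    · rw [e]; exact J.mul_mem_left t (hy j)
    · rw [e, smul_eq_mul, ← mul_sub]; exact J.mul_mem_left t ha

set_option maxHeartbeats 1000000 in
/-- A chain of ideals with one evaluation step between consecutive ones, from `⊥` to `⊤`. -/
theorem exists_chain [Module.FinitePresentation A B] (e : B)
    (he : ∀ q : Ideal A, q.IsPrime → ∀ s ∉ q, s • e ∉ q • (⊤ : Submodule A B)) :
    ∃ (N : ℕ) (J : ℕ → Ideal A), J 0 = ⊥ ∧ J N = ⊤ ∧
      ∀ (k : ℕ) (M : Type v) [AddCommGroup M] [Module A M], (∀ a ∈ J k, ∀ m : M, a • m = 0) →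
        ∀ a ∈ J (k + 1), ∀ m : M, ∃ φ : B →ₗ[A] M, φ e = a • m := by
  classical
  obtain ⟨n, s, hs⟩ := Module.Finite.exists_fin (R := A) (M := B)
  let L : (Fin n → A) →ₗ[A] B := Fintype.linearCombination A s
  have hL : Function.Surjective L := LinearMap.range_eq_top.1 ((Fintype.range_linearCombination A s).trans hs)
  obtain ⟨m, r, hr⟩ := Submodule.fg_iff_exists_fin_generating_family.1 (Module.FinitePresentation.fg_ker L hL)
  obtain ⟨c, hc⟩ := hL e
  obtain ⟨A₀, _, _, ι, r₀, c₀, hr₀, hc₀⟩ : ∃ (A₀ : Type u) (_ : CommRing A₀) (_ : IsNoetherianRing A₀) (ι : A₀ →+* A)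
      (r₀ : Fin m → Fin n → A₀) (c₀ : Fin n → A₀), (∀ j l, ι (r₀ j l) = r j l) ∧ ∀ l, ι (c₀ l) = c l := by
    let S : Finset A := (Finset.univ.image fun p : Fin m × Fin n => r p.1 p.2) ∪ Finset.univ.image c
    let A₀ := Algebra.adjoin ℤ (S : Set A)
    have : Algebra.FiniteType ℤ A₀ := (Subalgebra.fg_iff_finiteType A₀).1 (Subalgebra.fg_adjoin_finset S)
    exact ⟨A₀, inferInstance, Algebra.FiniteType.isNoetherianRing ℤ A₀, A₀.val.toRingHom,
      fun j l => ⟨r j l, Algebra.subset_adjoin (Finset.mem_union_left _ (Finset.mem_image.2 ⟨(j, l), Finset.mem_univ _, rfl⟩))⟩,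
      fun l => ⟨c l, Algebra.subset_adjoin (Finset.mem_union_right _ (Finset.mem_image.2 ⟨l, Finset.mem_univ _, rfl⟩))⟩,
      fun j l => rfl, fun l => rfl⟩
  let K : Ideal A₀ → Ideal A₀ := fun J => ((trIdeal r₀ c₀ J).map ι).comap ι
  let J₀ : ℕ → Ideal A₀ := fun k => Nat.rec ⊥ (fun _ J => K J) k
  have hle : ∀ J, J ≤ K J := fun J a ha =>
    Ideal.le_comap_map (show a ∈ trIdeal r₀ c₀ J from ⟨0, by simp, by simpa using ha⟩)
  have hmono : Monotone J₀ := monotone_nat_of_le_succ fun k => hle _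
  obtain ⟨N, hN⟩ := monotone_stabilizes_iff_noetherian.2 (inferInstance : IsNoetherian A₀ A₀) ⟨J₀, hmono⟩
  have hfix : K (J₀ N) = J₀ N := (hN (N + 1) (Nat.le_succ N)).symm
  have htop : J₀ N = ⊤ := by
    by_contra hne
    obtain ⟨p, hp⟩ := Ideal.nonempty_minimalPrimes (I := J₀ N) hne
    have hp' : p ∈ (((trIdeal r₀ c₀ (J₀ N)).map ι).comap ι).minimalPrimes := by
      show p ∈ (K (J₀ N)).minimalPrimes
      rw [hfix]; exact hp
    obtain ⟨q, hq, -, hqp⟩ := Ideal.exists_comap_eq_of_mem_minimalPrimes ι p hp'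
    have := hp.1.1
    let F := FractionRing (A₀ ⧸ p)
    let π : A₀ →+* F := (algebraMap (A₀ ⧸ p) F).comp (Ideal.Quotient.mk p)
    have hπ : ∀ a, π a = 0 ↔ a ∈ p := fun a => by
      simp only [π, RingHom.comp_apply, map_eq_zero_iff _ (IsFractionRing.injective (A₀ ⧸ p) F),
        Ideal.Quotient.eq_zero_iff_mem]
    let W : Submodule F (Fin n → F) := Submodule.span F (Set.range fun j l => π (r₀ j l))
    have hcW : (fun l => π (c₀ l)) ∉ W := by
      intro hmem
      obtain ⟨k, hk⟩ := (Submodule.mem_span_range_iff_exists_fun F).1 hmem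
      obtain ⟨⟨d, hd⟩, hint⟩ := IsLocalization.exist_integer_multiples_of_finite (S := F) (nonZeroDivisors (A₀ ⧸ p)) k
      obtain ⟨d, rfl⟩ := Ideal.Quotient.mk_surjective d
      choose kk hkk using hint
      choose k₀ hk₀ using fun j => Ideal.Quotient.mk_surjective (kk j)
      have hdp : d ∉ p := fun h => nonZeroDivisors.ne_zero hd (Ideal.Quotient.eq_zero_iff_mem.2 h)
      have hrel : ∀ l, d * c₀ l - ∑ j, k₀ j * r₀ j l ∈ p := fun l => by
        rw [← hπ, map_sub, map_mul, map_sum, sub_eq_zero, ← congrFun hk l, Finset.sum_apply, Finset.mul_sum]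
        refine Finset.sum_congr rfl fun j _ => ?_
        have h2 : π (k₀ j) = π d * k j := by
          change algebraMap _ F (Ideal.Quotient.mk p (k₀ j)) = _
          rw [hk₀, hkk, Algebra.smul_def]
          rfl
        rw [map_mul, h2, Pi.smul_apply, smul_eq_mul, mul_assoc]
      have hdq : ι d ∉ q := fun h => hdp (hqp ▸ h)
      refine he q hq (ι d) hdq ?_
      have hv : ι d • e = L (fun l => ι (d * c₀ l - ∑ j, k₀ j * r₀ j l)) := by
        have h1 : (fun l => ι (d * c₀ l - ∑ j, k₀ j * r₀ j l)) = ι d • c - ∑ j, ι (k₀ j) • r j := by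
          funext l
          simp [hr₀, hc₀, Finset.sum_apply]
        rw [h1, map_sub, map_smul, map_sum, hc]
        simp only [map_smul]
        rw [Finset.sum_eq_zero fun j _ => ?_, sub_zero]
        rw [LinearMap.mem_ker.1 (hr.le (Submodule.subset_span ⟨j, rfl⟩)), smul_zero]
      rw [hv, Fintype.linearCombination_apply]
      exact Submodule.sum_mem _ fun l _ => Submodule.smul_mem_smul (hqp.ge (hrel l) : _ ∈ q) trivial
    obtain ⟨f, hf, hfW⟩ := Submodule.exists_dual_map_eq_bot_of_notMem hcW inferInstance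
    obtain ⟨⟨d, hd⟩, hint⟩ := IsLocalization.exist_integer_multiples_of_finite (S := F) (nonZeroDivisors (A₀ ⧸ p))
      fun l => f (Pi.single l 1)
    obtain ⟨d, rfl⟩ := Ideal.Quotient.mk_surjective d
    choose yy hyy using hint
    choose y hy using fun l => Ideal.Quotient.mk_surjective (yy l)
    have hyf : ∀ v : Fin n → A₀, π (∑ l, v l * y l) = π d * f (fun l => π (v l)) := fun v => by
      have : (fun l => π (v l)) = ∑ l, π (v l) • (Pi.single l 1 : Fin n → F) := by
        funext i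
        simp [Finset.sum_apply, Pi.single_apply]
      rw [this, map_sum, map_sum, Finset.mul_sum]
      refine Finset.sum_congr rfl fun l _ => ?_
      have h2 : π (y l) = π d * f (Pi.single l 1) := by
        change algebraMap _ F (Ideal.Quotient.mk p (y l)) = _
        rw [hy, hyy, Algebra.smul_def]
        rfl
      rw [map_mul, h2, map_smul, smul_eq_mul]
      ring
    have hdp : π d ≠ 0 := fun h => nonZeroDivisors.ne_zero hd (Ideal.Quotient.eq_zero_iff_mem.2 ((hπ d).1 h))
    have hry : ∀ j, ∑ l, r₀ j l * y l ∈ p := fun j => by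
      rw [← hπ, hyf, show f (fun l => π (r₀ j l)) = 0 from
        (Submodule.mem_bot F).1 (hfW.le ⟨_, Submodule.subset_span ⟨j, rfl⟩, rfl⟩), mul_zero]
    have hcy : ∑ l, c₀ l * y l ∉ p := fun h => by
      rw [← hπ, hyf] at h
      exact mul_ne_zero hdp hf h
    obtain ⟨J, hJ⟩ : ∃ J : Ideal A₀, J = J₀ N := ⟨_, rfl⟩
    rw [← hJ] at hp hfix
    have hann : Module.annihilator A₀ (A₀ ⧸ J) = J := by
      ext a
      rw [Module.mem_annihilator]
      constructor
      · intro h
        have := h 1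
        rwa [← map_one (Ideal.Quotient.mk (J)), Algebra.smul_def, Ideal.Quotient.algebraMap_eq, ← map_mul, mul_one,
          Ideal.Quotient.eq_zero_iff_mem] at this
      · intro h x
        obtain ⟨x, rfl⟩ := Ideal.Quotient.mk_surjective x
        rw [Algebra.smul_def, Ideal.Quotient.algebraMap_eq, ← map_mul, Ideal.Quotient.eq_zero_iff_mem]
        exact Ideal.mul_mem_right _ _ h
    have hass : p ∈ associatedPrimes A₀ (A₀ ⧸ J) :=
      Module.associatedPrimes.minimalPrimes_annihilator_subset_associatedPrimes A₀ (A₀ ⧸ J) (hann.symm ▸ hp)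
    obtain ⟨hpp, x', hx⟩ := isAssociatedPrime_iff.1 hass
    obtain ⟨x, hx'⟩ := Ideal.Quotient.mk_surjective x'
    rw [← hx'] at hx
    have hxp : ∀ a, a ∈ p ↔ x * a ∈ J := fun a => by
      rw [hx, Submodule.mem_colon_singleton, Submodule.mem_bot, Algebra.smul_def, Ideal.Quotient.algebraMap_eq,
        ← map_mul, Ideal.Quotient.eq_zero_iff_mem, mul_comm]
    have hmem : x * ∑ l, c₀ l * y l ∈ trIdeal r₀ c₀ (J) := by
      have e : ∀ f : Fin n → A₀, ∑ l, f l * (x * y l) = x * ∑ l, f l * y l := fun f => by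
        rw [Finset.mul_sum]; exact Finset.sum_congr rfl fun l _ => by ring
      refine ⟨fun l => x * y l, fun j => ?_, ?_⟩
      · rw [e]; exact (hxp _).1 (hry j)
      · rw [e, sub_self]; exact zero_mem _
    exact hcy ((hxp _).2 (hfix.le (Ideal.le_comap_map hmem)))
  refine ⟨N, fun k => (J₀ k).map ι, Ideal.map_bot, ?_, ?_⟩
  · change (J₀ N).map ι = ⊤
    rw [htop, Ideal.map_top]
  intro k M _ _ hk a ha x
  have ha' : a ∈ (trIdeal r₀ c₀ (J₀ k)).map ι := Ideal.map_comap_le ha
  rw [Ideal.map] at ha'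
  clear ha
  induction ha' using Submodule.span_induction with
  | mem b hb =>
    obtain ⟨b, ⟨y, hy, hb'⟩, rfl⟩ := hb
    let φ₀ : (Fin n → A) →ₗ[A] M := Fintype.linearCombination A fun l => ι (y l) • x
    have hφ : ∀ v : Fin n → A₀, φ₀ (fun l => ι (v l)) = ι (∑ l, v l * y l) • x := fun v => by
      simp only [φ₀, Fintype.linearCombination_apply, map_sum, Finset.sum_smul, map_mul, mul_smul]
    have hker : LinearMap.ker L ≤ LinearMap.ker φ₀ := by
      rw [← hr, Submodule.span_le]
      rintro _ ⟨j, rfl⟩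
      rw [show r j = fun l => ι (r₀ j l) from funext fun l => (hr₀ j l).symm]
      exact LinearMap.mem_ker.2 ((hφ (r₀ j)).trans (hk _ (Ideal.mem_map_of_mem ι (hy j)) x))
    refine ⟨((LinearMap.ker L).liftQ φ₀ hker) ∘ₗ (L.quotKerEquivOfSurjective hL).symm.toLinearMap, ?_⟩
    have h1 : (L.quotKerEquivOfSurjective hL).symm e = Submodule.Quotient.mk c := by
      rw [LinearEquiv.symm_apply_eq]
      exact hc.symm
    rw [LinearMap.comp_apply, LinearEquiv.coe_coe, h1, Submodule.liftQ_apply]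
    rw [show c = fun l => ι (c₀ l) from funext fun l => (hc₀ l).symm]
    refine (hφ c₀).trans ?_
    have h2 := hk _ (Ideal.mem_map_of_mem ι hb') x
    rw [map_sub, sub_smul, sub_eq_zero] at h2
    exact h2.symm
  | zero => exact ⟨0, by simp⟩
  | add b b' _ _ hb hb' =>
    obtain ⟨φ, hφ⟩ := hb
    obtain ⟨φ', hφ'⟩ := hb'
    exact ⟨φ + φ', by simp [hφ, hφ', add_smul]⟩
  | smul t b _ hb =>
    obtain ⟨φ, hφ⟩ := hb
    exact ⟨t • φ, by simp [hφ, mul_smul]⟩

end Groth.Agent.AlgSpB.Chev
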