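import Groth.Agent.AlgSpB.Chev.HomFP
import Groth.Agent.AlgSpEN.HomInv
import Groth.Agent.AlgSpEN.Chevalley

/-!
# Evaluation of homomorphisms out of the direct image of the structure sheaf
-/

set_option autoImplicit false
universe u

open CategoryTheory CategoryTheory.Limits AlgebraicGeometry Opposite TensorProduct

set_option backward.isDefEq.respectTransparency false
set_option backward.isDefEq.respectTransparency.types false

noncomputable section

namespace Groth.Agent.AlgSpB.Chev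

open _root_.AlgSp Groth.Agent.AlgSpQC Groth.Agent.AlgSpEN.HomC Groth.Agent.AlgSpEN

variable {S : Scheme.{u}} {X Y : Space S} {f : X.obj ⟶ Y.obj} (hf : Representable f)

/-- The unit section of the direct image. -/
def oneP (E : EtOver Y.obj) : sectModEt (pushO hf) E :=
  (pushSect hf (unitModEt X.obj) E).symm (upΓ (bcO hf E) 1)

theorem rs_oneP {E E' : EtOver Y.obj} (g : E' ⟶ E) : rs (pushO hf) g (oneP hf E) = oneP hf E' := by
  apply (pushSect hf (unitModEt X.obj) E').injective
  rw [pushSect_rs]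
  change upΓ _ (gm (bcM hf g) 1) = upΓ _ 1
  rw [map_one]

variable {hf}

/-- The value at the unit of the homomorphism given by a section of the pullback. -/
def evalU [(pushO hf).IsQuasicoherent] (M : ModEt Y.obj) [(homMod (pushO hf) M).IsQuasicoherent]
    (V : EtOver Y.obj) [IsAffine V.obj.left.left] [IsAffine (bcO hf V).obj.left.left] :
    sectModEt ((pushModEt hf).obj (pullQC hf (homMod (pushO hf) M))) V →+ sectModEt M V :=
  (AddMonoidHom.mk' (fun h : LinFam (pushO hf) M V => cmp h (𝟙 V) ‹_› (oneP hf V))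
    (fun h h' => cmp_add h h' (𝟙 V) ‹_› (oneP hf V))).comp
    ((actPT M V).comp ((pullEv (homMod (pushO hf) M) (𝟙 (bcO hf V))).comp
      (pushSect hf (pullQC hf (homMod (pushO hf) M)) V).toAddMonoidHom))

theorem evalU_apply [(pushO hf).IsQuasicoherent] (M : ModEt Y.obj) [(homMod (pushO hf) M).IsQuasicoherent]
    (V : EtOver Y.obj) [IsAffine V.obj.left.left] [IsAffine (bcO hf V).obj.left.left]
    (t : sectModEt ((pushModEt hf).obj (pullQC hf (homMod (pushO hf) M))) V) :
    evalU M V t = cmp (actPT M V (pullEv (homMod (pushO hf) M) (𝟙 (bcO hf V))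
      (pushSect hf (pullQC hf (homMod (pushO hf) M)) V t))) (𝟙 V) ‹_› (oneP hf V) := rfl

theorem evalU_smul [(pushO hf).IsQuasicoherent] (M : ModEt Y.obj) [(homMod (pushO hf) M).IsQuasicoherent]
    (V : EtOver Y.obj) [IsAffine V.obj.left.left] [IsAffine (bcO hf V).obj.left.left] (a : gr V)
    (t : sectModEt ((pushModEt hf).obj (pullQC hf (homMod (pushO hf) M))) V) :
    evalU M V (a • t) = a • evalU M V t := by
  have e : mulB (gπ hf V a) (𝟙 V) (oneP hf V) = a • oneP hf V := by
    apply (pushSect hf (unitModEt X.obj) V).injective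
    rw [pushSect_mulB, pushSect_smul, show bcM hf (𝟙 V) = 𝟙 (bcO hf V) from (EtOver.bc hf).map_id V, gm_id]
  let z := pullEv (homMod (pushO hf) M) (𝟙 (bcO hf V)) (pushSect hf (pullQC hf (homMod (pushO hf) M)) V t)
  have h1 : pullEv (homMod (pushO hf) M) (𝟙 (bcO hf V))
      (pushSect hf (pullQC hf (homMod (pushO hf) M)) V (a • t)) = gπ hf V a • z :=
    (congrArg (pullEv (homMod (pushO hf) M) (𝟙 (bcO hf V)))
      (pushSect_smul hf (pullQC hf (homMod (pushO hf) M)) V a t)).trans (pullEv_smul _ _ _)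
  have h2 : actPT M V (gπ hf V a • z) = act (gπ hf V a) (actPT M V z) := actPT_smul _ _
  exact (congrArg (fun w => cmp (actPT M V w) (𝟙 V) ‹_› (oneP hf V)) h1).trans
    ((congrArg (fun h => cmp h (𝟙 V) ‹_› (oneP hf V)) h2).trans
      ((cmp_act _ _ _ _ _).trans ((congrArg (cmp (actPT M V z) (𝟙 V) ‹_›) e).trans (cmp_smul' _ _ _ _ _))))

theorem rs_evalU [(pushO hf).IsQuasicoherent] (M : ModEt Y.obj) [(homMod (pushO hf) M).IsQuasicoherent]
    {V W : EtOver Y.obj} (g : W ⟶ V) [hV : IsAffine V.obj.left.left] [IsAffine (bcO hf V).obj.left.left]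
    [hW : IsAffine W.obj.left.left] [IsAffine (bcO hf W).obj.left.left]
    (t : sectModEt ((pushModEt hf).obj (pullQC hf (homMod (pushO hf) M))) V) :
    rs M g (evalU M V t) = evalU M W (rs ((pushModEt hf).obj (pullQC hf (homMod (pushO hf) M))) g t) := by
  have w : 𝟙 (bcO hf W) ≫ bcM hf g = bcM hf g ≫ 𝟙 (bcO hf V) := by rw [Category.id_comp, Category.comp_id]
  let z := pullEv (homMod (pushO hf) M) (𝟙 (bcO hf V)) (pushSect hf (pullQC hf (homMod (pushO hf) M)) V t)
  have h1 : rs M g (cmp (actPT M V z) (𝟙 V) hV (oneP hf V)) = cmp (actPT M V z) (g ≫ 𝟙 V) hW (oneP hf W) :=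
    (cmp_rs _ _ _ hV hW _).trans (congrArg (cmp (actPT M V z) (g ≫ 𝟙 V) hW) (rs_oneP hf g))
  have h2 : pullEv (homMod (pushO hf) M) (𝟙 (bcO hf W)) (pushSect hf (pullQC hf (homMod (pushO hf) M)) W
      (rs ((pushModEt hf).obj (pullQC hf (homMod (pushO hf) M))) g t)) =
        μ (homMod (pushO hf) M) (𝟙 (bcO hf V)) (𝟙 (bcO hf W)) (bcM hf g) g w z :=
    (congrArg (pullEv (homMod (pushO hf) M) (𝟙 (bcO hf W)))
      (pushSect_rs hf (pullQC hf (homMod (pushO hf) M)) g t)).trans
      (pullEv_rs (𝟙 (bcO hf V)) (𝟙 (bcO hf W)) (bcM hf g) g w _)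
  have h3 : cmp (linRes g (actPT M V z)) (𝟙 W) hW (oneP hf W) = cmp (actPT M V z) (g ≫ 𝟙 V) hW (oneP hf W) :=
    (cmp_linRes g _ _ hW _).trans (congrArg (fun q => cmp (actPT M V z) q hW (oneP hf W))
      ((Category.id_comp g).trans (Category.comp_id g).symm))
  exact h1.trans (h3.symm.trans ((congrArg (fun h => cmp h (𝟙 W) hW (oneP hf W)) (linRes_actPT g w z)).trans
    (congrArg (fun q => cmp (actPT M W q) (𝟙 W) hW (oneP hf W)) h2).symm))

/-- A morphism of modules from natural linear maps on affine objects. -/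
theorem exists_hom_of_affine (G M : ModEt Y.obj)
    (val : ∀ (V : EtOver Y.obj) (_ : IsAffine V.obj.left.left), sectModEt G V →+ sectModEt M V)
    (hsmul : ∀ V hV (a : gr V) x, val V hV (a • x) = a • val V hV x)
    (hnat : ∀ V W (g : W ⟶ V) hV hW x, rs M g (val V hV x) = val W hW (rs G g x)) :
    ∃ ψ : G ⟶ M, ∀ E hE x, hs ψ E x = val E hE x := by
  let fam : ∀ E : EtOver Y.obj, LinFam G M E := fun E =>
    ⟨fun j => val j.1.1 j.1.2, fun V _ hV a x => hsmul V hV a x, fun V W _ g hV hW x => hnat V W g hV hW x⟩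
  let σ : (homMod G M).sections :=
    PresheafOfModules.sectionsMk (fun E => fam E.unop) (fun E E' g => fam_ext fun V v hV x => rfl)
  obtain ⟨ψ, hψ⟩ := exists_hom_of_sections _ _ σ
  exact ⟨ψ, fun E hE x => hψ E hE x⟩

theorem exists_evalHom [(pushO hf).IsQuasicoherent] (M : ModEt Y.obj) [(homMod (pushO hf) M).IsQuasicoherent]
    (haff : IsAffineMor f) :
    ∃ ψ : (pushModEt hf).obj (pullQC hf (homMod (pushO hf) M)) ⟶ M,
      ∀ (E : EtOver Y.obj) [IsAffine E.obj.left.left] [IsAffine (bcO hf E).obj.left.left] (t), hs ψ E t = evalU M E t := by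
  obtain ⟨ψ, hψ⟩ := exists_hom_of_affine ((pushModEt hf).obj (pullQC hf (homMod (pushO hf) M))) M
    (fun V hV => @evalU S X Y f hf _ M _ V hV (@isAffine_bcO_and_map _ _ _ _ hf haff V hV))
    (fun V hV => @evalU_smul S X Y f hf _ M _ V hV (@isAffine_bcO_and_map _ _ _ _ hf haff V hV))
    (fun V W g hV hW => @rs_evalU S X Y f hf _ M _ V W g hV (@isAffine_bcO_and_map _ _ _ _ hf haff V hV) hW
      (@isAffine_bcO_and_map _ _ _ _ hf haff W hW))
  exact ⟨ψ, fun E hE hb t => hψ E hE t⟩

set_option maxHeartbeats 800000 in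
/-- A morphism from a direct image of a quasi-coherent module whose image holds every value at the unit. -/
theorem exists_eval (haff : IsAffineMor f) [(pushO hf).IsQuasicoherent]
    (hfp : ∀ (E : EtOver Y.obj), IsAffine E.obj.left.left → Module.FinitePresentation (gr E) (sectModEt (pushO hf) E))
    (M : ModEt Y.obj) [M.IsQuasicoherent] :
    ∃ (N : ModEt X.obj) (_ : N.IsQuasicoherent) (ψ : (pushModEt hf).obj N ⟶ M),
      ∀ (E : EtOver Y.obj), IsAffine E.obj.left.left →
        ∀ φ : sectModEt (pushO hf) E →ₗ[gr E] sectModEt M E, ∃ t, hs ψ E t = φ (oneP hf E) := by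
  have := isQuasicoherent_homMod_fp (pushO hf) M hfp
  let H := homMod (pushO hf) M
  let P := pullQC hf H
  have hP : P.IsQuasicoherent := isQuasicoherent_pullQC hf H
  have hbc : ∀ V : EtOver Y.obj, IsAffine V.obj.left.left → IsAffine (bcO hf V).obj.left.left := fun V hV =>
    isAffine_bcO_and_map (hf := hf) haff V
  obtain ⟨ψ, hψ⟩ := exists_evalHom M haff
  refine ⟨P, hP, ψ, fun E hE φ => ?_⟩
  have := hbc E hE
  obtain ⟨e, he⟩ := exists_affine_eval (pushO hf) M (E := E)
  obtain ⟨y, hy⟩ := (bijective_pullEv (G := H) (𝟙 (bcO hf E))).2 (tm (𝟙 (bcO hf E)) 1 (e.symm φ))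
  have e1 : mulB (1 : gr (bcO hf E)) (𝟙 E) (oneP hf E) = oneP hf E := by
    apply (pushSect hf (unitModEt X.obj) E).injective
    rw [pushSect_mulB, map_one, one_smul]
  have h2 : actPT M E (pullEv H (𝟙 (bcO hf E)) y) = act 1 (e.symm φ) :=
    (congrArg (actPT M E) hy).trans (actPT_tm _ _)
  have h3 : φ (oneP hf E) = cmp (e.symm φ : LinFam (pushO hf) M E) (𝟙 E) hE (oneP hf E) :=
    (congrArg (fun l => l (oneP hf E)) (e.apply_symm_apply φ)).symm.trans (he (e.symm φ) (oneP hf E))
  exact ⟨(pushSect hf P E).symm y, (hψ E _).trans ((congrArg (fun h => cmp h (𝟙 E) hE (oneP hf E)) h2).trans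
    ((cmp_act _ _ _ _ _).trans ((congrArg (cmp _ (𝟙 E) hE) e1).trans h3.symm)))⟩

end Groth.Agent.AlgSpB.Chev
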