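import Groth.Agent.AlgSpEN.HomSheaf

/-!
# Homomorphisms out of finitely presented modules
-/

set_option autoImplicit false
universe u

open CategoryTheory CategoryTheory.Limits AlgebraicGeometry Opposite TensorProduct

set_option backward.isDefEq.respectTransparency false
set_option backward.isDefEq.respectTransparency.types false

noncomputable section

namespace Groth.Agent.AlgSpB.Chev

open _root_.AlgSp Groth.Agent.AlgSpQC Groth.Agent.AlgSpEN.HomC

/-- Homomorphisms out of a finitely presented module commute with flat base change. -/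
theorem isBC_hom_fp {A W : Type u} [CommRing A] [CommRing W] (p : A →+* W) (hp : p.Flat)
    {G G' M M' : Type (u + 1)} [AddCommGroup G] [Module A G] [Module.FinitePresentation A G] [AddCommGroup G'] [Module W G']
    [AddCommGroup M] [Module A M] [AddCommGroup M'] [Module W M'] (α : G →+ G')
    (hα : ∀ a x, α (a • x) = p a • α x) (hαb : IsBC p α) (β : M →+ M') (hβ : ∀ a x, β (a • x) = p a • β x)
    (hβb : IsBC p β) {H H' : Type (u + 1)} [AddCommGroup H] [Module A H] [AddCommGroup H'] [Module W H']
    (ev : H → G → M) (ev' : H' → G' → M') (eH : H ≃ₗ[A] (G →ₗ[A] M)) (heH : ∀ h x, eH h x = ev h x)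
    (eH' : H' ≃ₗ[W] (G' →ₗ[W] M')) (heH' : ∀ h x, eH' h x = ev' h x) (Θ : H →+ H')
    (hΘ : ∀ a h, Θ (a • h) = p a • Θ h) (hev : ∀ h x, ev' (Θ h) (α x) = β (ev h x)) : IsBC p Θ := by
  classical
  let _ : Algebra A W := p.toAlgebra
  have : Module.Flat A W := RingHom.flat_algebraMap_iff.1 hp
  obtain ⟨n, s, hs⟩ := Module.Finite.exists_fin (R := A) (M := G)
  let L : (Fin n → A) →ₗ[A] G := Fintype.linearCombination A s
  have hL : Function.Surjective L := LinearMap.range_eq_top.1 ((Fintype.range_linearCombination A s).trans hs)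
  obtain ⟨m, r, hr⟩ := Submodule.fg_iff_exists_fin_generating_family.1 (Module.FinitePresentation.fg_ker L hL)
  let κ := ULift.{u} (Fin n)
  let μ := ULift.{u} (Fin m)
  let η : H →ₗ[A] (κ → M) := LinearMap.pi fun i => (LinearMap.applyₗ (s i.down)) ∘ₗ eH.toLinearMap
  let δ : (κ → M) →ₗ[A] (μ → M) :=
    LinearMap.pi fun j => ∑ i : Fin n, r j.down i • LinearMap.proj (ULift.up i)
  have hηi : Function.Injective η := (injective_iff_map_eq_zero η).2 fun h hh => by
    apply eH.injective
    rw [map_zero]
    refine LinearMap.ext_on_range hs fun i => ?_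
    simpa [η] using congrFun hh ⟨i⟩
  have hex : Function.Exact η δ := fun x => by
    constructor
    · intro hx
      let Lx : (Fin n → A) →ₗ[A] M := Fintype.linearCombination A fun i => x ⟨i⟩
      have hker : LinearMap.ker L ≤ LinearMap.ker Lx := by
        rw [← hr, Submodule.span_le]
        rintro _ ⟨j, rfl⟩
        simpa [δ, Lx, Fintype.linearCombination_apply, LinearMap.proj] using congrFun hx ⟨j⟩
      let φ : G →ₗ[A] M := ((LinearMap.ker L).liftQ Lx hker) ∘ₗ (L.quotKerEquivOfSurjective hL).symm.toLinearMap
      refine ⟨eH.symm φ, funext fun i => ?_⟩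
      obtain ⟨i⟩ := i
      have e : L (Pi.single i 1) = s i := by simp [L, Fintype.linearCombination_apply_single]
      have : φ (s i) = x ⟨i⟩ := by
        rw [← e]
        simp [φ, Lx, Fintype.linearCombination_apply_single]
      simpa [η] using this
    · rintro ⟨h, rfl⟩
      funext j
      have hmem : L (r j.down) = 0 := LinearMap.mem_ker.1 (hr.le (Submodule.subset_span ⟨j.down, rfl⟩))
      have := congrArg (eH h) hmem
      simpa [δ, η, L, Fintype.linearCombination_apply, LinearMap.proj] using this
  have hβb' := (isBC_iff (A := A) β hβ).1 hβb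
  let Φ₁ : W ⊗[A] (κ → M) →+ (κ → M') := bcPi fun _ => (bc β hβ).toAddMonoidHom
  let Φ₂ : W ⊗[A] (μ → M) →+ (μ → M') := bcPi fun _ => (bc β hβ).toAddMonoidHom
  let ρ : H' →+ (κ → M') :=
    { toFun := fun h i => eH' h (α (s i.down))
      map_zero' := by ext i; simp
      map_add' := fun a b => by ext i; simp }
  let σ : (κ → M') → (μ → M') := fun x j => ∑ i : Fin n, p (r j.down i) • x ⟨i⟩
  have hgen : Submodule.span W (Set.range fun i => α (s i)) = ⊤ := by
    rw [eq_top_iff]
    intro y _
    obtain ⟨c, rfl⟩ := hαb.1 y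
    rw [Finsupp.linearCombination_apply]
    refine Submodule.sum_mem _ fun x _ => Submodule.smul_mem _ _ ?_
    obtain ⟨d, rfl⟩ := hL x
    simp only [L, Fintype.linearCombination_apply, map_sum, hα]
    exact Submodule.sum_mem _ fun i _ => Submodule.smul_mem _ _ (Submodule.subset_span ⟨i, rfl⟩)
  refine (isBC_iff (A := A) Θ hΘ).2 (bijective_of_exact η δ hηi hex ρ σ ?_ ?_ (bc Θ hΘ).toAddMonoidHom Φ₁ Φ₂
    (bcPi_bijective _ fun _ => hβb') (bcPi_bijective _ fun _ => hβb').1 ?_ ?_)
  · refine (injective_iff_map_eq_zero ρ).2 fun h hh => ?_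
    apply eH'.injective
    rw [map_zero]
    exact LinearMap.ext_on_range hgen fun i => congrFun hh ⟨i⟩
  · intro h
    funext j
    have hmem : L (r j.down) = 0 := LinearMap.mem_ker.1 (hr.le (Submodule.subset_span ⟨j.down, rfl⟩))
    have := congrArg (fun y => eH' h (α y)) hmem
    simpa [L, Fintype.linearCombination_apply, hα, σ, ρ] using this
  · intro x
    induction x using TensorProduct.induction_on with
    | zero => simp
    | add a b ha hb => simp only [map_add, ha, hb]
    | tmul w h =>
      funext i
      simp only [Φ₁, ρ, bcPi, η]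
      simp [heH, ← hev, ← heH', map_smul]
  · intro y
    induction y using TensorProduct.induction_on with
    | zero => funext j; simp [σ]
    | add a b ha hb =>
      rw [map_add, map_add, ha, hb, map_add]
      funext j
      simp [σ, smul_add, Finset.sum_add_distrib]
    | tmul w x =>
      funext j
      simp [Φ₁, Φ₂, bcPi, δ, σ, map_sum, hβ, smul_smul, mul_comm w, Finset.smul_sum, LinearMap.proj]

variable {S : Scheme.{u}} {X : Space S} (G M : ModEt X.obj)

/-- The sheaf of homomorphisms out of a finitely presented module is quasi-coherent. -/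
theorem isQuasicoherent_homMod_fp [G.IsQuasicoherent] [M.IsQuasicoherent]
    (hG : ∀ (E : EtOver X.obj), IsAffine E.obj.left.left → Module.FinitePresentation (gr E) (sectModEt G E)) :
    (homMod G M).IsQuasicoherent := by
  refine isQuasicoherent_of_bc fun E W g hE hW => ?_
  have := hG E hE
  obtain ⟨e, he⟩ := exists_affine_eval G M (E := E)
  obtain ⟨e', he'⟩ := exists_affine_eval G M (E := W)
  refine isBC_hom_fp (gm g) (flat_gm g) (rs G g) (rs_smul g) (bc_of_isQuasicoherent g) (rs M g) (rs_smul g)
    (bc_of_isQuasicoherent g) _ _ e he e' he' (rs (homMod G M) g) (rs_smul g) fun h x => ?_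
  change cmp (h : LinFam G M E) (𝟙 W ≫ g) hW (rs G g x) = _
  have := cmp_rs (h : LinFam G M E) (𝟙 E) g hE hW x
  rw [Category.comp_id] at this
  rw [Category.id_comp]
  exact this.symm

end Groth.Agent.AlgSpB.Chev
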