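import Groth.Agent.AlgSpB.Chev.Vanish
import Groth.Agent.S10033
import Groth.Agent.S10006
import Groth.Agent.AlgSpSpec.Approx
import Groth.Agent.AlgSp.UnivClosed
import Groth.Agent.AlgSp.LimAffineMor
import Groth.Agent.AlgSp.JshriekEquiv
import Groth.Agent.AlgSpB.IdealApprox.ThickScheme
import Groth.Agent.AlgSpEN.SepVanish

/-!
# Integral images of affine schemes are affine
-/

universe u

open CategoryTheory CategoryTheory.Limits AlgebraicGeometry Opposite

set_option backward.isDefEq.respectTransparency false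
set_option backward.isDefEq.respectTransparency.types false
set_option autoImplicit false

noncomputable section

namespace Groth.Agent.AlgSpB.Chev

open _root_.AlgSp Groth.Agent.AlgSp

variable {S : Scheme.{u}}

theorem exists_affine_of_fp [QuasiSeparatedSpace ↥S] (Y : Space S) (hqc : IsQuasiCompactSp Y.obj)
    (hqs : IsQuasiSeparatedSp Y.obj) {T : Over S} [IsAffine T.left] (f : (yon S).obj T ⟶ Y.obj)
    (hff : RepWith @IsFinite f) (hl : RepWith @LocallyOfFinitePresentation f) (hs : RepWith @Surjective f) :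
    ∃ T' : Over S, IsAffine T'.left ∧ Nonempty ((yon S).obj T' ≅ Y.obj) := by
  let X : Space S := ⟨(yon S).obj T, IsAlgSpace.yon_obj T⟩
  let E₀ : EtOver X.obj := EtOver.mk (𝟙 ((yon S).obj T)) ((repWith_isMultiplicative (S := S) @Etale).id_mem _)
  have : IsIso E₀.obj.hom := inferInstanceAs (IsIso (𝟙 ((yon S).obj T)))
  have : IsAffine E₀.obj.left.left := ‹IsAffine T.left›
  exact Groth.Agent.S10732.result Y hqc hqs fun M hM =>
    subsingleton_HModEt (X := X) hqc hqs E₀ hff hl hs 1 one_pos M

theorem exists_affine_of_integral [QuasiSeparatedSpace ↥S] (Y : Space S) (hqc : IsQuasiCompactSp Y.obj)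
    (hqs : IsQuasiSeparatedSp Y.obj) {T : Over S} [IsAffine T.left] (f : (yon S).obj T ⟶ Y.obj)
    (hf : RepWith @IsIntegralHom f) (hs : Function.Surjective (Points.map f)) :
    ∃ T' : Over S, IsAffine T'.left ∧ Nonempty ((yon S).obj T' ≅ Y.obj) := by
  let X : Space S := ⟨(yon S).obj T, IsAlgSpace.yon_obj T⟩
  obtain ⟨I, _, hdir, _, D, t, c, hc, e, hD, hDa, ht, hcomp⟩ := Groth.Agent.S10033.result S (X := X) (Y := Y)
    (ObjectProperty.homMk f) ((Groth.Agent.AlgSpD.isIntegralMor_iff f).2 hf) hqc hqs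
  have : IsDirectedOrder I := hdir
  have hfa : ∀ i, RepWith @IsAffineHom (t.app i) := fun i => repWith_mono
    (fun g (hg : IsFinite g) => (inferInstance : IsAffineHom g))
    ((Groth.Agent.AlgSpD.isFiniteMor_iff _).1 (ht i).1)
  have hqcqs := fun i => Groth.Agent.AlgSpSpec.qcqs_of_affine (hD i) Y.property (hfa i) hqc hqs
  obtain ⟨i, T₁, hT₁, ⟨ε⟩⟩ := Groth.Agent.S10006.result S D hD hDa (fun i => (hqcqs i).1) (fun i => (hqcqs i).2)
    c hc T ‹_› e.symm
  have hg : RepWith @IsFinite (ε.hom ≫ t.app i) := (MorphismProperty.cancel_left_of_respectsIso _ ε.hom _).2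
    ((Groth.Agent.AlgSpD.isFiniteMor_iff _).1 (ht i).1)
  refine exists_affine_of_fp Y hqc hqs (ε.hom ≫ t.app i) hg
    ((MorphismProperty.cancel_left_of_respectsIso _ ε.hom _).2
      (Groth.Agent.AlgSpCov.repWith_of_locP Groth.Agent.AlgSpCov.etaleLocal_locallyOfFinitePresentation
        (hD i) Y.property (hfa i).1 (ht i).2.1))
    ((repWith_surjective_iff _ hg.1).2 fun y => ?_)
  obtain ⟨x, hx⟩ := hs y
  refine ⟨Points.map (e.inv ≫ c.π.app i ≫ ε.inv) x, ?_⟩
  rw [← Points.map_comp, Category.assoc, Category.assoc, ε.inv_hom_id_assoc]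
  exact (congrArg (fun m => Points.map m x) (hcomp i)).trans hx

/-- An algebraic space over any scheme with a universally closed surjection from an affine scheme is
affine. -/
theorem exists_affine_of_univClosed (Y : Space S) {T : Over S} [IsAffine T.left] (i : (yon S).obj T ⟶ Y.obj)
    (hi : RepWith @UniversallyClosed i) (his : RepWith @Surjective i) :
    ∃ T' : Over S, IsAffine T'.left ∧ Nonempty ((yon S).obj T' ≅ Y.obj) := by
  let g : S ⟶ ⊤_ Scheme.{u} := terminal.from S
  let Y' : Space (⊤_ Scheme.{u}) := ⟨(Jshriek.jlow g).obj Y.obj, Jshriek.isAlgSpace_jlow g Y.property⟩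
  have : IsIso (Jshriek.tilde g (𝟙 ((yon S).obj T))) := Jshriek.isIso_tilde_id g T
  let i' : (yon _).obj ((Over.map g).obj T) ⟶ Y'.obj := Jshriek.tilde g (𝟙 _) ≫ (Jshriek.jlow g).map i
  have : IsAffine ((Over.map g).obj T).left := inferInstanceAs (IsAffine T.left)
  have hi' : RepWith @UniversallyClosed i' :=
    (MorphismProperty.cancel_left_of_respectsIso _ _ _).2 ((Jshriek.repWith_jlow_map_iff g Y.property i _).2 hi)
  have his' : RepWith @Surjective i' :=
    (MorphismProperty.cancel_left_of_respectsIso _ _ _).2 ((Jshriek.repWith_jlow_map_iff g Y.property i _).2 his)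
  have hsp : Function.Surjective (Points.map i') := (repWith_surjective_iff i' hi'.1).1 his'
  have hqc' : IsQuasiCompactSp Y'.obj := isQuasiCompactSp_of_compactSpace Y'.property ⟨by
    convert isCompact_range (Points.continuous_ofPt i')
    refine (Set.eq_univ_of_forall fun y => ?_).symm
    obtain ⟨x, rfl⟩ := hsp y
    exact ⟨Points.toScheme _ x, by rw [Points.ofPt_eq_map_ofScheme, Points.ofScheme_toScheme]⟩⟩
  have hqs' : IsQuasiSeparatedSp Y'.obj := by
    let hB := LimSepAbs.isTerminalBase (S := ⊤_ Scheme.{u})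
    refine (LimSepAbs.diag_prop_iff @QuasiCompact _ hB (hB.from _)).1
      ((separation_of_surjective_univClosed (IsAlgSpace.yon_obj _) Y'.property (IsAlgSpace.yon_obj _) i'
        (hB.from _) (hB.from _) (hB.hom_ext _ _) hsp (isUnivClosedMor_of_repWith hi')).1 ?_)
    exact (LimSepAbs.diag_prop_iff @QuasiCompact _ hB (hB.from _)).2
      (LimAffineMor.isQuasiSeparatedSp_yon ((Over.map g).obj T))
  have hsep' : IsSeparatedSp Y'.obj := by
    let hB := LimSepAbs.isTerminalBase (S := ⊤_ Scheme.{u})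
    refine (LimSepAbs.diag_prop_iff @IsClosedImmersion _ hB (hB.from _)).1
      ((separation_of_surjective_univClosed (IsAlgSpace.yon_obj _) Y'.property (IsAlgSpace.yon_obj _) i'
        (hB.from _) (hB.from _) (hB.hom_ext _ _) hsp (isUnivClosedMor_of_repWith hi')).2 ?_)
    refine (LimSepAbs.diag_prop_iff @IsClosedImmersion _ hB (hB.from _)).2 ((repWith_diag_yon_iff _ _).2 ?_)
    have : IsSeparated ((Over.map g).obj T).hom :=
      IsSeparated.of_comp _ (terminal.from _)
    exact this.isClosedImmersion_diagonal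
  have hint : RepWith @IsIntegralHom i' :=
    have ha := Groth.Agent.AlgSpEN.Bound.repWith_isAffineHom_chart (X := Y') hsep' hi'.1
    ⟨hi'.1, fun A Q t q s sq => IsIntegralHom.iff_universallyClosed_and_isAffineHom.2 ⟨hi'.2 t q s sq, ha.2 t q s sq⟩⟩
  obtain ⟨T', hT', ⟨e⟩⟩ := exists_affine_of_integral Y' hqc' hqs' i' hint hsp
  obtain ⟨a, ha⟩ := (yon _).map_surjective (e.hom ≫ Jshriek.aF g Y.obj)
  let W : Over S := Over.mk a.left
  let eW : (Over.map g).obj W ≅ T' := Over.isoMk (Iso.refl _) (by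
    change 𝟙 _ ≫ T'.hom = a.left ≫ g
    rw [Category.id_comp]
    exact (Over.w a).symm)
  have : IsIso (Jshriek.tilde g (𝟙 ((yon S).obj W))) := Jshriek.isIso_tilde_id g W
  let E : (Jshriek.jlow g).obj ((yon S).obj W) ≅ (Jshriek.jlow g).obj Y.obj :=
    (asIso (Jshriek.tilde g (𝟙 ((yon S).obj W)))).symm ≪≫ (yon _).mapIso eW ≪≫ e
  have hE : E.hom ≫ Jshriek.aF g Y.obj = Jshriek.aF g ((yon S).obj W) := by
    simp only [E, Iso.trans_hom, Iso.symm_hom, asIso_inv, Category.assoc, Functor.mapIso_hom, ← ha,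
      IsIso.inv_comp_eq, Jshriek.tilde_aF, ← Functor.map_comp]
    congr 1
  have hE' : E.inv ≫ Jshriek.aF g ((yon S).obj W) = Jshriek.aF g Y.obj := by rw [← hE, Iso.inv_hom_id_assoc]
  obtain ⟨f, hf⟩ := Jshriek.exists_map_eq_of_over g (IsAlgSpace.yon_obj W) Y.property E.hom hE
  obtain ⟨f', hf'⟩ := Jshriek.exists_map_eq_of_over g Y.property (IsAlgSpace.yon_obj W) E.inv hE'
  exact ⟨W, inferInstanceAs (IsAffine T'.left), ⟨⟨f, f',
    Jshriek.map_injective_jlow g (IsAlgSpace.yon_obj W) (by rw [Functor.map_comp, hf, hf', Iso.hom_inv_id, CategoryTheory.Functor.map_id]),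
    Jshriek.map_injective_jlow g Y.property (by rw [Functor.map_comp, hf', hf, Iso.inv_hom_id, CategoryTheory.Functor.map_id])⟩⟩⟩

/-- An algebraic space over any scheme with an integral surjection from an affine scheme is affine. -/
theorem exists_affine_of_integral' (Y : Space S) {T : Over S} [IsAffine T.left] (i : (yon S).obj T ⟶ Y.obj)
    (hi : RepWith @IsIntegralHom i) (his : RepWith @Surjective i) :
    ∃ T' : Over S, IsAffine T'.left ∧ Nonempty ((yon S).obj T' ≅ Y.obj) :=
  exists_affine_of_univClosed Y i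
    (repWith_mono (fun f (hf : IsIntegralHom f) => (inferInstance : UniversallyClosed f)) hi) his

end Groth.Agent.AlgSpB.Chev
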