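import Groth.Agent.AlgSpB.Chev.Eval
import Groth.Agent.AlgSpB.Chev.Alg
import Groth.Agent.S10732

/-!
# Vanishing of cohomology on a finitely presented finite image of an affine scheme
-/

set_option autoImplicit false
universe u

open CategoryTheory CategoryTheory.Limits AlgebraicGeometry Opposite

set_option backward.isDefEq.respectTransparency false
set_option backward.isDefEq.respectTransparency.types false

noncomputable section

namespace Groth.Agent.AlgSpB.Chev

open _root_.AlgSp Groth.Agent.AlgSpQC Groth.Agent.AlgSpEN Groth.Agent.AlgSpEN.HomC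

variable {S : Scheme.{u}} {X Y : Space S} {f : X.obj ⟶ Y.obj} (hf : Representable f)

/-- The direct image of the structure sheaf as a module over the functions. -/
def pushEquiv (E : EtOver Y.obj) :
    letI : Algebra (gr E) (gr (bcO hf E)) := (gπ hf E).toAlgebra
    gr (bcO hf E) ≃ₗ[gr E] sectModEt (pushO hf) E :=
  letI : Algebra (gr E) (gr (bcO hf E)) := (gπ hf E).toAlgebra
  { toFun := fun b => (pushSect hf (unitModEt X.obj) E).symm (upΓ (bcO hf E) b)
    invFun := fun t => (pushSect hf (unitModEt X.obj) E t).down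
    left_inv := fun b => rfl
    right_inv := fun t => rfl
    map_add' := fun b b' => by rw [map_add]; rfl
    map_smul' := fun a b => map_mul (upΓ (bcO hf E)) (gπ hf E a) b }

variable {hf}

theorem finitePresentation_pushO (hff : RepWith @IsFinite f) (hl : RepWith @LocallyOfFinitePresentation f)
    (E : EtOver Y.obj) (hE : IsAffine E.obj.left.left) :
    Module.FinitePresentation (gr E) (sectModEt (pushO hf) E) := by
  have hfin := (Groth.Agent.AlgSpD.isFiniteMor_iff f).2 hff
  let _ : Algebra (gr E) (gr (bcO hf E)) := (gπ hf E).toAlgebra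
  have : Module.Finite (gr E) (gr (bcO hf E)) := finite_gπ (hf := hf) hfin E
  have := isAffine_bcO_and_map (hf := hf) (isAffineMor_of_isFiniteMor hfin) E
  have : IsAffine (EtOver.bcObj hf E).obj.left.left := this
  have hπ : LocallyOfFinitePresentation (EtOver.bcπ hf E).left := hl.2 _ _ _ (EtOver.isPullback_bcObj hf E)
  have hp : RingHom.FinitePresentation (gπ hf E) :=
    (HasRingHomProperty.iff_of_isAffine (P := @LocallyOfFinitePresentation)).1 hπ
  have : Algebra.FinitePresentation (gr E) (gr (bcO hf E)) := hp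
  have := Module.FinitePresentation.of_finite_of_finitePresentation (gr E) (gr (bcO hf E))
  exact Module.FinitePresentation.of_equiv (pushEquiv hf E)

theorem notMem_smul_top (hfin : IsFiniteMor f) (hsurj : RepWith @Surjective f) (U : EtOver Y.obj)
    [IsAffine U.obj.left.left] (q : Ideal (gr U)) (hq : q.IsPrime) (s : gr U) (hs : s ∉ q) :
    s • oneP hf U ∉ q • (⊤ : Submodule (gr U) (sectModEt (pushO hf) U)) := by
  let _ : Algebra (gr U) (gr (bcO hf U)) := (gπ hf U).toAlgebra
  have := isAffine_bcO_and_map (hf := hf) (isAffineMor_of_isFiniteMor hfin) U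
  have hπ : Surjective (EtOver.bcπ hf U).left := hsurj.2 _ _ _ (EtOver.isPullback_bcObj hf U)
  obtain ⟨Q, hQ⟩ : ∃ Q : PrimeSpectrum (gr (bcO hf U)),
      PrimeSpectrum.comap (algebraMap (gr U) (gr (bcO hf U))) Q = ⟨q, hq⟩ := by
    obtain ⟨u, hu⟩ := U.obj.left.left.isoSpec.hom.surjective ⟨q, hq⟩
    obtain ⟨z, rfl⟩ := hπ.surj u
    refine ⟨(bcO hf U).obj.left.left.toSpecΓ z, ?_⟩
    rw [← hu]
    change _ = ((EtOver.bcπ hf U).left ≫ U.obj.left.left.toSpecΓ) z
    rw [Scheme.toSpecΓ_naturality]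
    rfl
  intro h
  have h' : (pushEquiv hf U).symm (s • oneP hf U) ∈
      (q • (⊤ : Submodule (gr U) (sectModEt (pushO hf) U))).map (pushEquiv hf U).symm.toLinearMap :=
    Submodule.mem_map_of_mem h
  rw [Submodule.map_smul'', map_smul] at h'
  have h1 : (pushEquiv hf U).symm (oneP hf U) = 1 := rfl
  rw [h1, show s • (1 : gr (bcO hf U)) = algebraMap (gr U) (gr (bcO hf U)) s from (Algebra.algebraMap_eq_smul_one s).symm] at h'
  have hle : q • (⊤ : Submodule (gr U) (sectModEt (pushO hf) U)).map (pushEquiv hf U).symm.toLinearMap ≤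
      Q.asIdeal.restrictScalars (gr U) := by
    refine Submodule.smul_le.2 fun a ha x _ => ?_
    rw [Algebra.smul_def]
    exact Q.asIdeal.mul_mem_right _ (show a ∈ Q.asIdeal.comap (algebraMap (gr U) (gr (bcO hf U))) from
      (congrArg PrimeSpectrum.asIdeal hQ).ge ha)
  exact hs ((congrArg PrimeSpectrum.asIdeal hQ).le (hle h'))

/-- The descending induction along a chain of ideals. -/
theorem subsingleton_of_chain (U : EtOver Y.obj) [IsAffine U.obj.left.left] (hU : SerreC.Covers U) (q N : ℕ)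
    (J : ℕ → Ideal (gr U)) (hJ0 : J 0 = ⊥) (hJN : J N = ⊤)
    (hnext : ∀ M : ModEt Y.obj, M.IsQuasicoherent → Subsingleton (HModEt Y.obj M (q + 1 + 1)))
    (hev : ∀ (k : ℕ) (M : ModEt Y.obj), M.IsQuasicoherent → (∀ a ∈ J k, ∀ m : sectModEt M U, a • m = 0) →
      ∃ (P : ModEt Y.obj) (_ : P.IsQuasicoherent) (ψ : P ⟶ M), Subsingleton (HModEt Y.obj P (q + 1)) ∧
        ∀ a ∈ J (k + 1), ∀ x : sectModEt M U, ∃ t, hs ψ U t = a • x)
    (M : ModEt Y.obj) [M.IsQuasicoherent] : Subsingleton (HModEt Y.obj M (q + 1)) := by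
  suffices H : ∀ e k, k + e = N → ∀ M : ModEt Y.obj, M.IsQuasicoherent →
      (∀ a ∈ J k, ∀ m : sectModEt M U, a • m = 0) → Subsingleton (HModEt Y.obj M (q + 1)) from
    H N 0 (zero_add N) M inferInstance fun a ha m => by
      rw [hJ0, Submodule.mem_bot] at ha
      rw [ha, zero_smul]
  intro e
  induction e with
  | zero =>
    intro k hk M hM hkill
    refine Chev.subsingleton_of_isZero (Chev.isZero_of_sect hU fun m => ?_) _
    have := hkill 1 (by rw [show k = N by omega, hJN]; trivial) m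
    rwa [one_smul] at this
  | succ e ihe =>
    intro k hk M hM hkill
    obtain ⟨P, hP, ψ, hPv, hψ⟩ := hev k M hM hkill
    have := isQuasicoherent_kernel ψ
    have := isQuasicoherent_cokernel ψ
    have hI : Subsingleton (HModEt Y.obj (Abelian.image ψ) (q + 1)) :=
      Chev.subsingleton_X₃ (T := ShortComplex.mk (kernel.ι ψ) (Abelian.factorThruImage ψ)
        ((cancel_mono (Abelian.image.ι ψ)).mp (by simp)))
        { exact := ShortComplex.exact_of_f_is_kernel _
            (isKernelOfComp _ _ (kernelIsKernel ψ) _ (Abelian.image.fac ψ)) }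
        (hnext _ inferInstance) hPv
    have hk' : ∀ a ∈ J (k + 1), ∀ y : sectModEt (cokernel ψ) U, a • y = 0 := fun a ha y => by
      obtain ⟨x, hx⟩ := hs_surjective (cokernel.π ψ) U y
      obtain ⟨t, ht⟩ := hψ a ha x
      exact (congrArg (a • ·) hx.symm).trans ((map_smul (hs (cokernel.π ψ) U) a x).symm.trans
        ((congrArg (hs (cokernel.π ψ) U) ht.symm).trans ((hs_comp ψ (cokernel.π ψ) U t).symm.trans
          ((congrArg (fun φ => hs φ U t) (cokernel.condition ψ)).trans (hs_zero U t)))))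
    exact Chev.subsingleton_X₂ (T := ShortComplex.mk (Abelian.image.ι ψ) (cokernel.π ψ) (kernel.condition _))
      { exact := ShortComplex.exact_of_f_is_kernel _ (kernelIsKernel _) } hI
      (ihe (k + 1) (by omega) (cokernel ψ) inferInstance hk')

/-- One step of the chain. -/
theorem exists_step (U : EtOver Y.obj) (q : ℕ) (I I' : Ideal (gr U)) (M : ModEt Y.obj)
    [M.IsQuasicoherent]
    (hJ : ∀ a ∈ I', ∀ x : sectModEt M U, (∀ b ∈ I, ∀ m : sectModEt M U, b • m = 0) →
      ∃ φ : sectModEt (pushO hf) U →ₗ[gr U] sectModEt M U, φ (oneP hf U) = a • x)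
    (hkill : ∀ b ∈ I, ∀ m : sectModEt M U, b • m = 0)
    (hac : ∀ M : ModEt Y.obj, M.IsQuasicoherent → ∃ (P : ModEt Y.obj) (_ : P.IsQuasicoherent) (ψ : P ⟶ M),
      Subsingleton (HModEt Y.obj P (q + 1)) ∧
      ∀ φ : sectModEt (pushO hf) U →ₗ[gr U] sectModEt M U, ∃ t, hs ψ U t = φ (oneP hf U)) :
    ∃ (P : ModEt Y.obj) (_ : P.IsQuasicoherent) (ψ : P ⟶ M), Subsingleton (HModEt Y.obj P (q + 1)) ∧
        ∀ a ∈ I', ∀ x : sectModEt M U, ∃ t, hs ψ U t = a • x := by
  obtain ⟨P, hP, ψ, hPv, hψ⟩ := hac M inferInstance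
  exact ⟨P, hP, ψ, hPv, fun a ha x =>
    let ⟨φ, hφ⟩ := hJ a ha x hkill
    let ⟨t, ht⟩ := hψ φ
    ⟨t, ht.trans hφ⟩⟩

set_option maxHeartbeats 1600000 in
/-- Direct images of quasi-coherent modules on an affine scheme are acyclic. -/
theorem subsingleton_push (haff : IsAffineMor f) (E₀ : EtOver X.obj) [IsIso E₀.obj.hom] [IsAffine E₀.obj.left.left]
    (U : EtOver Y.obj) (hU : SerreC.Covers U) (hUs : RepWith @Surjective U.obj.hom) (q : ℕ) (N : ModEt X.obj)
    [N.IsQuasicoherent] : Subsingleton (HModEt Y.obj ((pushModEt hf).obj N) (q + 1)) :=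
  PushVanish.subsingleton_HEt_push hf haff E₀ U hU hUs (F := (toAbEt X.obj).obj N) (Amitsur.cech_qc N) q

/-- The acyclic source of the evaluation. -/
theorem exists_acyclic [(pushO hf).IsQuasicoherent] (haff : IsAffineMor f) (hfp : ∀ (E : EtOver Y.obj),
      IsAffine E.obj.left.left → Module.FinitePresentation (gr E) (sectModEt (pushO hf) E))
    (E₀ : EtOver X.obj) [IsIso E₀.obj.hom] [IsAffine E₀.obj.left.left] (U : EtOver Y.obj) [IsAffine U.obj.left.left]
    (hU : SerreC.Covers U) (hUs : RepWith @Surjective U.obj.hom) (q : ℕ) (M : ModEt Y.obj) [M.IsQuasicoherent] :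
    ∃ (P : ModEt Y.obj) (_ : P.IsQuasicoherent) (ψ : P ⟶ M), Subsingleton (HModEt Y.obj P (q + 1)) ∧
      ∀ φ : sectModEt (pushO hf) U →ₗ[gr U] sectModEt M U, ∃ t, hs ψ U t = φ (oneP hf U) := by
  obtain ⟨P, hP, ψ, hψ⟩ := exists_eval haff hfp M
  exact ⟨(pushModEt hf).obj P, isQuasicoherent_push_affine haff P, ψ,
    subsingleton_push haff E₀ U hU hUs q P,
    fun φ => hψ U ‹_› φ⟩

set_option maxHeartbeats 1600000 in
theorem subsingleton_HModEt [QuasiSeparatedSpace ↥S] (hqc : IsQuasiCompactSp Y.obj) (hqs : IsQuasiSeparatedSp Y.obj)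
    (E₀ : EtOver X.obj) [IsIso E₀.obj.hom] [IsAffine E₀.obj.left.left]
    (hff : RepWith @IsFinite f) (hl : RepWith @LocallyOfFinitePresentation f) (hs : RepWith @Surjective f)
    (i : ℕ) (hi : 0 < i) (M : ModEt Y.obj) [M.IsQuasicoherent] : Subsingleton (HModEt Y.obj M i) := by
  have hf : Representable f := hff.1
  obtain ⟨U, hUa, hU, hUs⟩ := SerreC.exists_atlas hqc
  have hfin := (Groth.Agent.AlgSpD.isFiniteMor_iff f).2 hff
  have haff := isAffineMor_of_isFiniteMor hfin
  have : (unitModEt X.obj).IsQuasicoherent := Groth.Agent.AlgSpD.QCExtension.isQuasicoherent_unit X.obj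
  have : (pushO hf).IsQuasicoherent := isQuasicoherent_push_affine haff _
  have hfp := finitePresentation_pushO (hf := hff.1) hff hl
  have := hfp U hUa
  obtain ⟨N, J, hJ0, hJN, hJ⟩ := exists_chain.{u, u + 1, u + 1} (A := gr U) (B := sectModEt (pushO hf) U) (oneP hf U)
    (fun q hq s hsq => notMem_smul_top hfin hs U q hq s hsq)
  obtain ⟨n, hn⟩ := Bound.exists_famBound_univ hqc hqs
  suffices H : ∀ d i, 0 < i → n < i + d → ∀ M : ModEt Y.obj, M.IsQuasicoherent →
      Subsingleton (HModEt Y.obj M i) from H (n + 1) i hi (by omega) M inferInstance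
  intro d
  induction d with
  | zero =>
    intro i hi hni M hM
    exact Bound.subsingleton_HEt (hn _ (Amitsur.cech_qc M)) i (by omega)
  | succ d ih =>
    intro i hi hni
    obtain ⟨q, rfl⟩ : ∃ q, i = q + 1 := ⟨i - 1, by omega⟩
    have hnext : ∀ M : ModEt Y.obj, M.IsQuasicoherent → Subsingleton (HModEt Y.obj M (q + 1 + 1)) :=
      ih _ (by omega) (by omega)
    intro M hM
    exact subsingleton_of_chain U hU q N J hJ0 hJN hnext
      (fun k M hM hkill => @exists_step _ _ _ _ hf U q (J k) (J (k + 1)) M hM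
        (fun a ha x hk => hJ k (sectModEt M U) hk a ha x) hkill
        (fun M hM => @exists_acyclic _ _ _ _ hf _ haff hfp E₀ _ _ U _ hU hUs q M hM)) M

end Groth.Agent.AlgSpB.Chev
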